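import Cfsg.Agent.E7P.E27.Soc
import Cfsg.Agent.E7P.E27.CX
import Cfsg.Agent.E7P.E27.CY
import Cfsg.Agent.E7P.E81.Alc

/-!
# S5932, task E27 (helper97)

`Sit.e27` : `p ^ a = 27` and `SSC` give `TorW (rho k)`.
-/

set_option autoImplicit false
set_option maxRecDepth 100000
set_option maxHeartbeats 400000
set_option linter.unusedSectionVars false

namespace Cfsg.Agent.E7P

open Cfsg Cfsg.Lie Matrix Module
open Cfsg.Agent.H943.E7V.Block (D1 rho)
open Cfsg.Agent.R2.T1 Cfsg.Agent.E7P.Kf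
open Cfsg.Agent.ChevalleyStructure.RootVec (rt)
open Cfsg.Agent.H943.SL2Rel Cfsg.Agent.H943.SL2Mod Cfsg.Agent.H943.RepAdd
open Cfsg.Agent.R2.H28.SL2
open Cfsg.Agent.H179.SLC (IsSS isSS_h)
open Cfsg.Agent.H944.Tab (dotN)
open Cfsg.Agent.H944.E7Two (th7)

universe u v

namespace E27

/-- the coordinates of the weights -/
def wl (x : ℕ) : List ℕ := (List.range 7).map fun j => (rt chevE8 x j).toNat

/-- the coordinates of the positive roots -/
def rl (r : ℕ) : List ℕ := (List.range 7).map fun j => (rt chevE7 r j).toNat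

theorem WL_wl : ∀ w ∈ WL, wl w.1 = w.2 := by decide +kernel

theorem RL_rl : ∀ w ∈ RL, rl w.1 = w.2 ∧ rl (125 - w.1) = List.replicate 7 0 ∧ 125 - (125 - w.1) = w.1 := by decide +kernel

theorem rt_rl : ∀ r < 126, ∀ j < 7, rt chevE7 r j = ((rl r).getD j 0 : ℤ) - ((rl (125 - r)).getD j 0 : ℤ) := by decide +kernel

theorem wl_mem (μ : D1) : (nn μ, wl (nn μ)) ∈ WL := by
  obtain ⟨w, h1, h2⟩ := List.mem_map.1 ((WL_mem _ (nn_lt μ)).1 (rt_nn μ))
  rw [← h2, WL_wl w h1]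
  exact h1

theorem dt_zero (n : ℕ) : ∀ y, dt (List.replicate n 0) y = 0 := by
  induction n with
  | zero => intro y; rfl
  | succ n ih =>
    intro y
    cases y with
    | nil => rfl
    | cons a y => rw [List.replicate_succ, dt, ih, zero_mul]

theorem dtZ {w y : List ℕ} (hw : w.length = 7) (hy : y.length = 7) :
    ∑ j : Fin 7, (w.getD j 0 : ℤ) * (y.getD j 0 : ℤ) = dt w y := by
  rw [dt_eq w y (hw.trans hy.symm), hy, Finset.sum_range]
  push_cast
  rfl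

theorem ra_dt (μ : D1) {y : List ℕ} (hy : y.length = 7) : ∑ j : Fin 7, Bl.ra μ j * (y.getD j 0 : ℤ) = dt (wl (nn μ)) y := by
  rw [← dtZ (WL_len _ (wl_mem μ)) hy]
  exact Finset.sum_congr rfl fun j _ => congrArg (· * _) (WL_rt _ (wl_mem μ) j j.2)

theorem top_dt {y : List ℕ} (hy : y.length = 7) :
    ∑ j : Fin 7, Kf.iC 6 j * (y.getD j 0 : ℤ) = dt [2, 3, 4, 6, 5, 4, 3] y := by
  rw [← dtZ rfl hy]
  exact Finset.sum_congr rfl fun j _ => congrArg (· * _) (by revert j; decide)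

theorem zpow_ex {G : Type*} [Group G] {ζ : G} {N : ℕ} (hζ : ζ ^ N = 1) (hN : 0 < N) (A B : ℕ) :
    ζ ^ ((A : ℤ) - B) = ζ ^ ((A + (N - 1) * B) % N) := by
  rw [← pow_eq_pow_mod _ hζ, _root_.zpow_sub, zpow_natCast, zpow_natCast, pow_add]
  congr 1
  refine inv_eq_of_mul_eq_one_left ?_
  rw [← pow_add, ← Nat.succ_mul, show (N - 1).succ = N by omega, pow_mul, hζ, one_pow]

/-- the exponents on the Lie algebra -/
def eL (N : ℕ) (y : List ℕ) : chevE7.Idx → ℕ :=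
  Sum.elim (fun _ => 0) fun r : Fin chevE7.nroots => (2 * dt (rl r) y + (N - 1) * (2 * dt (rl (125 - r)) y)) % N

/-- the cocharacter of a class -/
def cy (y : List ℕ) : Fin 7 → ℤ := Bl.co fun j => (y.getD j 0 : ℤ)

section
variable {k : Type u} [Field k] {ζ : kˣ} {N : ℕ} (hζ : ζ ^ N = 1) (hN : 0 < N) {y : List ℕ} (hy : y.length = 7)
include hζ hN hy

theorem ch_V (μ : D1) : ((ch (wc μ) (lam (cy y) ζ) : kˣ) : k) = (ζ : k) ^ ex N y (wl (nn μ)) := by
  rw [ch_lam, cy, Bl.wc_co, ra_dt μ hy, top_dt hy, ← Units.val_pow_eq_pow_val, ex, ← zpow_ex hζ hN]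
  rfl

theorem ch_L (i : chevE7.Idx) : ((ch (ac i) (lam (cy y) ζ) : kˣ) : k) = (ζ : k) ^ eL N y i := by
  rcases i with i | r
  · rw [ac_inl, ch_zero]
    exact (pow_zero _).symm
  · have h1 : pc r (fun j => (y.getD j 0 : ℤ)) = (dt (rl r) y : ℤ) - dt (rl (125 - r)) y := by
      rw [← dtZ (by simp [rl]) hy, ← dtZ (by simp [rl]) hy, ← Finset.sum_sub_distrib]
      exact Finset.sum_congr rfl fun j _ => by rw [rt_rl r r.2 j j.2, sub_mul]
    rw [ac_inr, ch_lam, cy, E81.co_eq, nt_cw_root _ r.2, h1, mul_sub, ← Units.val_pow_eq_pow_val]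
    exact congrArg _ (zpow_ex hζ hN (2 * _) (2 * _))

end

theorem sum_V (N : ℕ) (y : List ℕ) (φ : ℕ → ℕ) : ∑ μ : D1, φ (ex N y (wl (nn μ)) % N) = sl (fun w => φ (ex N y w)) WL := by
  rw [sum_D1 fun x => φ (ex N y (wl x) % N), sl_eq]
  exact congrArg _ (List.map_congr_left fun w hw => by rw [WL_wl w hw, ex, Nat.mod_mod])

theorem sum_L {N : ℕ} (hN : 0 < N) (y : List ℕ) {φ : ℕ → ℕ} (h : ∀ j < N, φ ((N - 1) * j % N) = φ j) :
    ∑ i : chevE7.Idx, φ (eL N y i % N) = 7 * φ 0 + 2 * sl (fun w => φ (2 * dt w y % N)) RL := by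
  refine (Fintype.sum_sum_type _).trans (congrArg₂ (· + ·) ?_ ?_)
  · show ∑ _ : Fin 7, φ (0 % N) = _
    rw [Finset.sum_const, Nat.zero_mod]
    rfl
  · refine (sum_roots fun r => φ ((2 * dt (rl r) y + (N - 1) * (2 * dt (rl (125 - r)) y)) % N % N)).trans ?_
    rw [two_mul (sl _ _), sl_eq]
    refine congrArg₂ (· + ·) (congrArg List.sum ?_) (congrArg List.sum ?_)
    · refine List.map_congr_left fun w hw => ?_
      rw [(RL_rl w hw).1, (RL_rl w hw).2.1, dt_zero, mul_zero, mul_zero, add_zero, Nat.mod_mod]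
    · refine List.map_congr_left fun w hw => ?_
      rw [(RL_rl w hw).2.2, (RL_rl w hw).1, (RL_rl w hw).2.1, dt_zero, mul_zero, zero_add, Nat.mod_mod, ← Nat.mul_mod_mod,
        h _ (Nat.mod_lt _ hN)]

theorem neg_of_isSS {K : Type v} [Field K] [Fintype K] [DecidableEq K] {k : Type u} [Field k] [DecidableEq k] (ι : K →+* k)
    {y : SpecialLinearGroup (Fin 2) K} (h : IsSS ι y (-1)) : y = -1 := by
  obtain ⟨v₁, v₂, h1, h2, h3⟩ := h
  have h4 : (-y).1.map ι = - y.1.map ι := by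
    ext i j
    exact map_neg ι _
  have h5 := pow_eq_one_of_isSS ι (g := -y) (ζ := 1) (N := 1) ⟨v₁, v₂, by rw [h4, neg_mulVec, h1, neg_smul, neg_neg],
    by rw [h4, neg_mulVec, h2, inv_neg, neg_smul, neg_neg], h3⟩ (pow_one _)
  rwa [pow_one, neg_eq_iff_eq_neg] at h5

/-- the digits -/
def dgt (n m : ℕ → ℕ) (i : ℕ) : ℕ := if i = 0 then 0 else if i ≤ 27 then 2 * n (i - 1) else 2 * m (i - 28)

theorem pk_dgt (n m : ℕ → ℕ) : pk (dgt n m) 55 = ∑ d ∈ Finset.range 27, 2 * n d * 1024 ^ (d + 1) +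
    1024 ^ 27 * ∑ d ∈ Finset.range 27, 2 * m d * 1024 ^ (d + 1) := by
  rw [pk, Finset.sum_range_succ', show 54 = 27 + 27 from rfl, Finset.sum_range_add, Finset.mul_sum,
    show dgt n m 0 = 0 from rfl, zero_mul, add_zero]
  refine congrArg₂ (· + ·) ?_ ?_
  · refine Finset.sum_congr rfl fun d hd => ?_
    have := Finset.mem_range.1 hd
    rw [dgt, if_neg (by omega), if_pos (by omega), Nat.add_sub_cancel]
  · refine Finset.sum_congr rfl fun d _ => ?_
    rw [dgt, if_neg (by omega), if_neg (by omega), show 27 + d + 1 - 28 = d by omega, add_assoc, pow_add]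
    ring

theorem good_of {s t : List ℕ} (hs : s.length = 7) (hs' : dotN th7 s ≤ 13) (ht : t.length = 7) (ht' : dotN th7 t ≤ 14)
    {c : ℕ → ℕ} (h0 : c 0 = 0) (hc : ∀ i < 55, c i < 512) (h : UU 26 T26 s = UU 28 T28 t + pk c 55) :
    good s (pk c 55) = true := by
  have h1 := chkX hs hs'
  have h2 := chkY ht ht'
  rw [pX, frc_eq] at h1
  rw [pY, frc_eq] at h2
  generalize UU 26 T26 s = x at h h1
  generalize UU 28 T28 t = y at h h2
  have h3 : TT x = TT y := by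
    have h4 : pk c 55 = _ := pk_succ c 54
    rw [TT, TT, show x % 1024 = y % 1024 by omega]
  rw [h3] at h1
  have h4 := Tr.of_mem h2 h1 (by omega)
  have h5 : Nat.sub x y = pk c 55 := by
    rw [h]
    exact Nat.add_sub_cancel_left _ _
  have h6 : Nat.land (pk c 55) MASK = 0 := by
    rw [MASK_eq]
    exact land_pk 55 c hc
  rwa [h5, h6, Nat.beq_refl] at h4

theorem mult_le {k : Type u} [Field k] [DecidableEq k] {K : Type v} [Field K] [Fintype K] [DecidableEq K] {ι : K →+* k}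
    {p a : ℕ} [Fact p.Prime] [CharP k p] [CharP K p] {V : Type*} [AddCommGroup V] [Module k V]
    {ρ : Representation k (SpecialLinearGroup (Fin 2) K) V} {n : ℕ → ℕ} (H : IsMult ι p a ρ n) (d : ℕ) : n d ≤ finrank k V := by
  by_cases h : n d = 0
  · omega
  rw [H.dim]
  exact (Nat.le_mul_of_pos_right _ (Finset.card_pos.2 ⟨0, Alm.zero_mem_Bf⟩)).trans
    (Finset.single_le_sum (f := fun b => n b * (Bf k b).card) (fun _ _ => Nat.zero_le _) (Finset.mem_range.2 (H.supp d h)))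

theorem rot_mod (j x : ℕ) : 3 ^ j * x % 26 = 3 ^ (j % 6) * x % 26 ∧ 3 ^ j * x % 28 = 3 ^ (j % 6) * x % 28 := by
  have h : ∀ N, 3 ^ 6 ≡ 1 [MOD N] → 3 ^ j * x % N = 3 ^ (j % 6) * x % N := fun N hN => by
    refine Nat.ModEq.mul_right x ?_
    conv_lhs => rw [← Nat.div_add_mod j 6, pow_add, pow_mul]
    exact ((hN.pow _).mul_right _).trans (by rw [one_pow, one_mul])
  exact ⟨h 26 (by decide), h 28 (by decide)⟩

end E27

namespace Sit

open E27

section
variable {b : ℕ} {F : Type u} {K : Type v} {k : Type u} [Field F] [Fintype F] [Field K] [Fintype K] [Field k]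
  (S : Sit 3 3 b F K k) [DecidableEq k] [DecidableEq K] [Fact (Nat.Prime 3)] [CharP k 3] [CharP K 3] [IsAlgClosed k]

theorem e27_sum {I : Type} [Fintype I] [DecidableEq I] {c : I → Fin 7 → ℤ} {R : Gh k →* Matrix I I k}
    {ρ : Representation k (SpecialLinearGroup (Fin 2) K) (I → k)} {n : ℕ → ℕ} (hR : WRep c R)
    (hρ : ∀ x v, ρ x v = R (S.ψ x) *ᵥ v) (H : IsMult S.ι 3 3 ρ n)
    {y : SpecialLinearGroup (Fin 2) K} {ζ : k} {N : ℕ} (hy : IsSS S.ι y ζ) (hζ : IsPrimitiveRoot ζ N) (hN : (N : k) ≠ 0)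
    (hq : 3 ^ 3 ≤ N + 1) {g : Gh k} {t : Fin chevE7.rank → kˣ} (ht : S.ψ y = g * Phi k t * g⁻¹) {e : I → ℕ}
    (he : ∀ i, ((ch (c i) t : kˣ) : k) = ζ ^ e i) (φ : ℕ → ℕ) : ∑ i, φ (e i % N) = CS N φ n := by
  rw [sum_fib (N := N) _ (fun i => Nat.mod_lt _ (by omega)), CS_eq k φ n (g := fun j => j) fun d m => Nat.mod_lt _ (by omega)]
  exact Finset.sum_congr rfl fun θ hθ => by rw [S.e27_count hR hρ H hy hζ hN hq ht he (Finset.mem_range.1 hθ)]

theorem e27_rot {n : ℕ → ℕ} (H : IsMult S.ι 3 3 S.R n) {j : ℕ} (hj : S.Rot j)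
    {y : SpecialLinearGroup (Fin 2) K} {ζ : k} {N : ℕ} (hy : IsSS S.ι y ζ) (hζ : IsPrimitiveRoot ζ N) (hN : (N : k) ≠ 0)
    (hq : 3 ^ 3 ≤ N + 1) (φ : ℕ → ℕ) : CS N (fun x => φ (3 ^ j * x % N)) n = CS N φ n := by
  rw [CS_eq k φ n (g := fun x => 3 ^ j * x % N) fun d m => Nat.mod_lt _ (by omega),
    CS_eq k φ n (g := fun j => j) fun d m => Nat.mod_lt _ (by omega)]
  exact Finset.sum_congr rfl fun θ hθ => by
    rw [hj.mult (R := rho k) (fun _ _ => rfl) H hy hζ hN hq (Finset.mem_range.1 hθ)]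

/-- the class of a generator of a torus -/
theorem e27_class {n m : ℕ → ℕ} (H : IsMult S.ι 3 3 S.R n) (H' : IsMult S.ι 3 3 S.RL m) {y : SpecialLinearGroup (Fin 2) K}
    {ζ : k} {M : ℕ} (hy : IsSS S.ι y ζ) (hζ : IsPrimitiveRoot ζ (2 * M)) (hN : ((2 * M : ℕ) : k) ≠ 0) (hM : 13 ≤ M)
    {g : Gh k} {t : Fin chevE7.rank → kˣ} (ht : S.ψ y = g * Phi k t * g⁻¹) {T : ℕ}
    (hT : ∀ j < 2 * M, E27.PT T ((2 * M - 1) * j % (2 * M)) = E27.PT T j) :
    ∃ (l : List (Fin 7)) (s : List ℕ) (t' : Fin chevE7.rank → kˣ), s.length = 7 ∧ dotN th7 s ≤ M ∧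
      S.ψ y = g * nL k l * Phi k t' * (g * nL k l)⁻¹ ∧ (∀ μ, ((ch (wc μ) t' : kˣ) : k) = ζ ^ ex (2 * M) s (wl (R2.T1.nn μ))) ∧
      UU (2 * M) T s = CS (2 * M) (E27.PT T) n + 1024 ^ 27 * CS (2 * M) (E27.PT T) m := by
  obtain ⟨ζ, rfl⟩ := hζ.isUnit (by omega)
  have h1 := IsPrimitiveRoot.coe_units_iff.1 hζ
  have h2 : (ζ : k) ^ M = -1 := (hζ.pow (by omega) (mul_comm 2 M)).eq_neg_one_of_two_right
  obtain ⟨l, s, h3, h4⟩ := E81.alc' (by omega) h1 ht (by rw [← map_pow, pow_eq_one_of_isSS S.ι hy hζ.pow_eq_one, map_one])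
    (by rw [← map_pow]; exact S.ψ_mem_center.2 (Or.inr (neg_of_isSS S.ι (h2 ▸ hy.pow _ M))))
  have h5 : (List.ofFn s).length = 7 := List.length_ofFn
  have h6 : (Bl.co fun i => (s i : ℤ)) = cy (List.ofFn s) := congrArg Bl.co (funext fun j => by fin_cases j <;> rfl)
  rw [h6] at h4
  have h7 := ch_V h1.pow_eq_one (by omega) h5
  refine ⟨l, _, _, h5, ?_, h4, h7, ?_⟩
  · simp only [Fin.sum_univ_seven, Lb.mk, Matrix.cons_val] at h3
    simp only [List.ofFn_succ, List.ofFn_zero, th7, dotN]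
    exact le_of_eq_of_le (by simp only [add_zero, add_assoc]; rfl) h3
  · rw [← S.e27_sum wrep_V (fun _ _ => rfl) H hy hζ hN (by omega) h4 h7, ← S.e27_sum wrep_L (fun _ _ => L_mulVec _ _) H' hy hζ hN
      (by omega) h4 (ch_L h1.pow_eq_one (by omega) h5), sum_V, sum_L (by omega) _ hT]
    unfold E27.UU
    rw [frc_eq]
    rfl

theorem e27_main (hs : S.SSC) : Nonempty (S.TorW (rho k)) := by
  have H := isMult_cf S.ι 3 S.cardK S.R
  have H' := isMult_cf S.ι 3 S.cardK S.RL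
  have h26 : ((26 : ℕ) : k) ≠ 0 := fun h => absurd ((CharP.cast_eq_zero_iff k 3 26).1 h) (by decide)
  have h28 : ((28 : ℕ) : k) ≠ 0 := fun h => absurd ((CharP.cast_eq_zero_iff k 3 28).1 h) (by decide)
  obtain ⟨c0, g, t, hζ, ht, hg⟩ := S.e27_frame
  have hζ : IsPrimitiveRoot (S.ι c0) 26 := hζ
  have : NeZero ((28 : ℕ) : k) := ⟨h28⟩
  obtain ⟨ξ, hξ⟩ := HasEnoughRootsOfUnity.exists_primitiveRoot k 28
  obtain ⟨y, hy⟩ := H179.SLC.exists_isSS S.ι S.ι.injective 3 (ζ := ξ) (by rw [S.cardK]; exact hξ.pow_eq_one) fun h => by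
    have h1 : ξ ^ 2 = 1 := by
      rw [sq]
      nth_rewrite 1 [h]
      exact inv_mul_cancel₀ (hξ.ne_zero (by decide))
    exact absurd ((hξ.pow_eq_one_iff_dvd 2).1 h1) (by decide)
  obtain ⟨g', t', ht'⟩ := exists_conj_T S.prime S.alg h28 (y := S.ψ y)
    (by rw [← map_pow, pow_eq_one_of_isSS S.ι hy hξ.pow_eq_one, map_one])
  obtain ⟨l, s, t1, h1, h2, h3, h4, h5⟩ := S.e27_class H H' (M := 13) (isSS_h S.ι c0) hζ h26 le_rfl ht PT26_neg
  obtain ⟨-, s', -, h6, h7, -, -, h8⟩ := S.e27_class H H' (M := 14) hy hξ h28 (by decide) ht' PT28_neg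
  generalize hn : (fun d => (cf (Sy.{u, u, v} S.ι 3) S.R).count d) = n at H h5 h8
  generalize hm : (fun d => (cf (Sy.{u, u, v} S.ι 3) S.RL).count d) = m at H' h5 h8
  have h9 : ∀ i < 55, dgt n m i < 512 := fun i _ => by
    have k1 := mult_le H (i - 1)
    have k2 := mult_le H' (i - 28)
    rw [finrank_fintype_fun_eq_card] at k1 k2
    have k3 : Fintype.card D1 = 56 := by
      rw [Fintype.card_eq_sum_ones, sum_D1 fun _ => 1]
      rfl
    have k4 : Fintype.card chevE7.Idx = 133 := (Fintype.card_sum (α := Fin 7) (β := Fin 126)).trans (by simp)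
    unfold dgt
    split_ifs <;> omega
  have h10 := good_of h1 h2 h6 h7 rfl h9 (by
    have k1 : UU 26 T26 s = _ := h5
    have k2 : UU 28 T28 s' = _ := h8
    rw [k1, k2, pk_dgt]
    have k3 : CS (2 * 13) _ n = CS (2 * 14) _ n + _ := CS_PT n
    have k4 : CS (2 * 13) _ m = CS (2 * 14) _ m + _ := CS_PT m
    rw [k3, k4]
    ring)
  have h11 : nv (pk (dgt n m) 55) = n := funext fun d => by
    rw [nv]
    cases k1 : Nat.blt d 27
    · have k2 := mt Nat.blt_eq.mpr (Bool.eq_false_iff.1 k1)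
      by_contra k3
      exact k2 (H.supp d fun h => k3 h.symm)
    · have k2 := Nat.blt_eq.mp k1
      rw [cond_true, fl_pk _ _ (fun i hi => (h9 i hi).trans (by decide)) _ (by omega), dgt, if_neg (by omega), if_pos (by omega),
        Nat.add_sub_cancel, Nat.mul_div_cancel_left _ two_pos]
  have h12 : fl (pk (dgt n m) 55) 54 / 2 = m 26 := by
    rw [fl_pk _ _ (fun i hi => (h9 i hi).trans (by decide)) _ (by decide)]
    exact Nat.mul_div_cancel_left _ two_pos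
  rw [good] at h10
  generalize look _ = L at h10
  rw [goodL, h11, h12, Bool.and_eq_true, List.all_eq_true] at h10
  obtain ⟨h13, h14⟩ := h10
  -- a certificate
  have key : ∀ c ∈ L, (∀ j, S.Rot j → ∀ θ < 26, fl c.2.2 θ ≠ 0 → fl c.2.2 (3 ^ j * θ % 26) ≠ 0) → ∀ d, InSoc S.ι 3 S.R d →
      ((List.range 27).all fun m => !sb d m || fl c.2.2 (wx 26 d m) != 0) = true → Nonempty (S.TorW (rho k)) := by
    intro c hc k1 d k2 k3
    have k4 := h13 c hc
    simp only [valid, Bool.and_eq_true, Bool.or_eq_true, List.all_eq_true, List.any_eq_true, List.mem_range, beq_iff_eq,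
      bne_iff_ne, Bool.not_eq_true'] at k3 k4
    obtain ⟨⟨⟨k5, k6⟩, j, k7, k8⟩, k9⟩ := k4
    refine S.e27_torw' (Θ := fun θ => fl c.2.2 θ ≠ 0) (by decide) hs (by decide) hζ (by decide) h3 (hg l) h4 k1 k2
      (fun m hm => ?_) (l := Bl.co fun i => (c.1.getD i 0 : ℤ) - (c.2.1.getD i 0 : ℤ))
      (Bl.co_ne fun h => k8 (by have := congrFun h ⟨j, k7⟩; simp only [Pi.zero_apply] at this; omega)) fun μ ν k10 k11 => ?_
    · rw [Bf_eq k (cf_lt S.ι 3 S.cardK _ d (k2.mem_cf S.ι 3)), Finset.mem_filter, Finset.mem_range] at hm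
      exact (k3 m hm.1).resolve_left (by rw [hm.2]; decide)
    · have k12 : ∀ μ, ex (2 * 13) s (wl (R2.T1.nn μ)) % 26 = ex 26 s (wl (R2.T1.nn μ)) := fun μ => Nat.mod_mod _ _
      rw [k12] at k11
      rw [k12, k12] at k10
      have k13 := (k9 _ (wl_mem μ)).resolve_left k11
      have k14 := (k9 _ (wl_mem ν)).resolve_left (k10 ▸ k11)
      rw [Bl.wc_co, Bl.wc_co]
      simp only [mul_sub, Finset.sum_sub_distrib, ra_dt _ k5, ra_dt _ k6]
      dsimp only at k13 k14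
      rw [k10] at k13
      omega
  subst hn hm
  rw [Bool.or_eq_true, Bool.and_eq_true] at h14
  rcases h14 with h14 | ⟨h14, h15⟩
  · obtain ⟨d, k1, k2⟩ := S.e27_socOK hs hζ h3 h4 h14
    obtain ⟨c, k3, k4⟩ := List.any_eq_true.1 k1
    obtain ⟨k5, k6⟩ := List.mem_filter.1 k3
    simp only [E27.closed, List.all_eq_true, List.mem_range, Bool.or_eq_true, beq_iff_eq, bne_iff_ne] at k6
    exact key c k5 (fun j _ => pow_closed (Θ := fun θ => fl c.2.2 θ ≠ 0) (fun θ h h' => (k6 θ h).resolve_left h') j) d k2 k4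
  · obtain ⟨d, k1, k2⟩ := S.e27_socOK hs hζ h3 h4 h15
    obtain ⟨c, k3, k4⟩ := List.any_eq_true.1 k1
    refine key c k3 (fun j hj θ k5 k6 => ?_) d k2 k4
    have k7 := S.e27_rot H hj (isSS_h S.ι c0) hζ h26 (by decide) (fun x => 1024 ^ x)
    have k8 := S.e27_rot H hj hy hξ h28 (by decide) (fun x => 1024 ^ x)
    simp only [fun x => (rot_mod j x).1] at k7
    simp only [fun x => (rot_mod j x).2] at k8
    simp only [noninv, List.all_eq_true, Bool.or_eq_true, bne_iff_ne] at h14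
    have k9 : 3 ^ (j % 6) ∉ [3, 9, 81, 243] := fun h => (h14 _ h).elim (fun h => h k7) fun h => h k8
    have k10 : ∀ i < 6, 3 ^ i ∉ [3, 9, 81, 243] → ∀ θ < 26, 3 ^ i * θ % 26 = θ := by decide
    rwa [(rot_mod j θ).1, k10 _ (Nat.mod_lt _ (by decide)) k9 θ k5]

end

variable {p a b : ℕ} {F : Type u} {K : Type v} {k : Type u} [Field F] [Fintype F] [Field K] [Fintype K] [Field k]

/-- **E27** -/
theorem e27 (S : Sit 3 3 b F K k) (hs : S.SSC) : Nonempty (S.TorW (rho k)) := by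
  classical
  have : Fact (Nat.Prime 3) := ⟨S.prime⟩
  have := S.chark
  have := S.charK
  have := S.closed
  exact S.e27_main hs

/-- **E27** -/
theorem e27' (S : Sit p a b F K k) (hp : p = 3) (ha : a = 3) (hs : S.SSC) : Nonempty (S.TorW (rho k)) := by
  subst hp ha
  exact S.e27 hs

end Sit

end Cfsg.Agent.E7P
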